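import Cfsg.Agent.CoThreeRecog.CertT.Steps0
import Cfsg.Agent.CoThreeRecog.CertT.Steps1

/-!
Generated coset enumeration certificate: validity.
-/

set_option autoImplicit false
set_option maxRecDepth 20000
set_option linter.style.longLine false

namespace Cfsg.Lib.CoThreeRecog.CertT

open Cfsg.Lib.CosetCert
open Cfsg.Lib.McLRecog (Piece fin_length)

theorem steps_ok : Piece cert spec.length 0 2478 (part0 ++ part1) :=
  (part0_ok.cat part1_ok)

theorem tab0 : cert.tabPart 2478 0 200 = true := by decide +kernel

theorem tab200 : cert.tabPart 2478 200 76 = true := by decide +kernel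

theorem rots_ok : cert.rotsOK rels spec = true := by decide +kernel

theorem valid : cert.Valid rels :=
  steps_ok.valid (by decide) rots_ok (by decide +kernel) (Cert.tabPart_add tab0 tab200)

theorem fin_len : cert.fin.length = 276 := fin_length cert

end Cfsg.Lib.CoThreeRecog.CertT
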